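import Groth.Agent.Lib.HopfPts19.Basic
import Mathlib.AlgebraicGeometry.Group.Affine

/-!
# Rational points of affine group schemes over an algebraically closed field
-/

set_option autoImplicit false
set_option linter.style.haveILetI false
set_option backward.isDefEq.respectTransparency.types false

universe u

open CategoryTheory MonoidalCategory CartesianMonoidalCategory AlgebraicGeometry Opposite

noncomputable section

namespace Groth.Agent.HopfPts19

variable {k : Type u} [Field k]

/-- An affine group scheme over a field is the spectrum of a Hopf algebra. -/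
theorem exists_model (G : Over (Spec (CommRingCat.of k))) [GrpObj G] [IsAffine G.left] :
    ∃ (A : Type u) (_ : CommRing A) (_ : HopfAlgebra k A),
      Nonempty ((hopfSpec (CommRingCat.of k)).obj (op (CommHopfAlgCat.of k A)) ≅ Grp.mk G) := by
  obtain ⟨⟨A⟩, ⟨e⟩⟩ := (essImage_hopfSpec (G := Grp.mk G)).2 ‹_›
  exact ⟨A.X, A.commRing, A.hopfAlgebra, ⟨e⟩⟩

variable {A : Type u} [CommRing A] [Algebra k A]

/-- An algebra point as a rational point. -/
def ptOfAlgHom (z : A →ₐ[k] k) :
    𝟙_ (Over (Spec (CommRingCat.of k))) ⟶ Over.mk (Spec.map (CommRingCat.ofHom (algebraMap k A))) :=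
  Over.homMk (Spec.map (CommRingCat.ofHom z.toRingHom)) (by
    show Spec.map _ ≫ Spec.map _ = 𝟙 _
    rw [← Spec.map_comp, ← CommRingCat.ofHom_comp,
      show z.toRingHom.comp (algebraMap k A) = RingHom.id k from RingHom.ext fun r => z.commutes r]
    exact Spec.map_id _)

theorem exists_algHom (x : 𝟙_ (Over (Spec (CommRingCat.of k))) ⟶
    Over.mk (Spec.map (CommRingCat.ofHom (algebraMap k A)))) : ∃ z : A →ₐ[k] k, ptOfAlgHom z = x := by
  obtain ⟨φ, hφ⟩ := Spec.map_surjective (R := CommRingCat.of A) (S := CommRingCat.of k) x.left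
  have hw : CommRingCat.ofHom (algebraMap k A) ≫ φ = 𝟙 _ := Spec.map_injective (by
    rw [Spec.map_comp, hφ, Spec.map_id]
    exact Over.w x)
  let z : A →ₐ[k] k := { φ.hom with commutes' := fun r => ConcreteCategory.congr_hom hw r }
  exact ⟨z, Over.OverMorphism.ext hφ⟩

end Groth.Agent.HopfPts19
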