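import Groth.Agent.Lib.Comodule.Basic
import Groth.Agent.Lib.Chevalley.Basic
import Groth.Agent.Lib.CoalgH23.Dual
import Groth.Agent.Lib.HopfFF23.Basic
import Groth.Agent.Lib.HopfFF23.Range
import Mathlib.RingTheory.HopfAlgebra.Convolution
import Mathlib.RingTheory.Jacobson.Ring
import Mathlib.FieldTheory.IsAlgClosed.Basic
import Mathlib.Order.Zorn

/-!
# Rational points of commutative Hopf algebras (any size) over an algebraically closed field

A rational point of a Hopf subalgebra extends to the whole Hopf algebra; so rational points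
detect non-nilpotent elements.
-/

set_option linter.style.haveILetI false

universe u v w

open TensorProduct Coalgebra HopfAlgebra WithConv

namespace Groth.Agent.HopfPts19

variable {k : Type u} [Field k] {A : Type v} [CommRing A] [HopfAlgebra k A]

/-- A Hopf subalgebra. -/
structure IsSub (B : Subalgebra k A) : Prop where
  comul_mem : ∀ b ∈ B, comul (R := k) b ∈
    LinearMap.range (TensorProduct.map B.val.toLinearMap B.val.toLinearMap)
  antipode_mem : ∀ b ∈ B, antipode k b ∈ B

/-- A closed injective algebra map induces a Hopf algebra on the source. -/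
theorem exists_hopf_of_injective {B : Type w} [CommRing B] [Algebra k B] (f : B →ₐ[k] A)
    (hf : Function.Injective f)
    (hB : ∀ b, comul (R := k) (f b) ∈ LinearMap.range (TensorProduct.map f.toLinearMap f.toLinearMap))
    (hS : ∀ b, ∃ b', f b' = antipode k (f b)) :
    ∃ (B' : Type w) (_ : CommRing B') (_ : HopfAlgebra k B') (φ : B' →ₐc[k] A), Function.Injective φ ∧
      (φ : B' →ₐ[k] A).range = f.range ∧ (Algebra.FiniteType k B → Algebra.FiniteType k B') := by
  let f₂ : B ⊗[k] B →ₐ[k] A ⊗[k] A := Algebra.TensorProduct.map f f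
  let f₃ : B ⊗[k] (B ⊗[k] B) →ₐ[k] A ⊗[k] (A ⊗[k] A) := Algebra.TensorProduct.map f f₂
  have hf₂ : Function.Injective f₂ :=
    TensorProduct.map_injective_of_flat_flat f.toLinearMap f.toLinearMap hf hf
  have hf₃ : Function.Injective f₃ :=
    TensorProduct.map_injective_of_flat_flat f.toLinearMap f₂.toLinearMap hf hf₂
  have hex : ∀ b : B, ∃ w, f₂ w = comul (R := k) (f b) := fun b => hB b
  choose dfun hd using hex
  let Δ : B →ₐ[k] B ⊗[k] B :=
    { toFun := dfun
      map_one' := hf₂ (by simp [hd])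
      map_mul' := fun x y => hf₂ (by simp [hd])
      map_zero' := hf₂ (by simp [hd])
      map_add' := fun x y => hf₂ (by simp [hd])
      commutes' := fun r => hf₂ (by
        rw [hd, f₂.commutes, f.commutes]
        exact (Bialgebra.comulAlgHom k A).commutes r) }
  let ε : B →ₐ[k] k := (Bialgebra.counitAlgHom k A).comp f
  choose sfun hs using hS
  let σ : B →ₐ[k] B :=
    { toFun := sfun
      map_one' := hf (by simp [hs])
      map_mul' := fun x y => hf (by simp [hs, HopfAlgebra.antipode_mul_antidistrib, mul_comm])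
      map_zero' := hf (by simp [hs])
      map_add' := fun x y => hf (by simp [hs])
      commutes' := fun r => hf (by rw [hs, f.commutes]; exact (antipodeAlgHom k A).commutes r) }
  have hΔ : ∀ b, f₂ (Δ b) = comul (R := k) (f b) := hd
  have a1 : (Algebra.TensorProduct.assoc k k k B B B).toAlgHom.comp
      ((Algebra.TensorProduct.map Δ (AlgHom.id k B)).comp Δ) =
      (Algebra.TensorProduct.map (AlgHom.id k B) Δ).comp Δ := by
    refine AlgHom.ext fun b => hf₃ ?_
    have e1 : ∀ w : B ⊗[k] B, f₃ (Algebra.TensorProduct.assoc k k k B B B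
        (Algebra.TensorProduct.map Δ (AlgHom.id k B) w)) =
        TensorProduct.assoc k A A A ((comul (R := k)).rTensor A (f₂ w)) := by
      intro w
      induction w using TensorProduct.induction_on with
      | zero => simp
      | add a b ha hb => simp only [map_add, ha, hb]
      | tmul a b =>
        simp only [f₂, Algebra.TensorProduct.map_tmul, LinearMap.rTensor_tmul, ← hΔ, AlgHom.coe_id, id_eq]
        induction Δ a using TensorProduct.induction_on with
        | zero => simp
        | add x y hx hy => simp only [TensorProduct.add_tmul, map_add, hx, hy]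
        | tmul x y => simp [f₃, f₂]
    have e2 : ∀ w : B ⊗[k] B, f₃ (Algebra.TensorProduct.map (AlgHom.id k B) Δ w) =
        (comul (R := k)).lTensor A (f₂ w) := by
      intro w
      induction w using TensorProduct.induction_on with
      | zero => simp
      | add a b ha hb => simp only [map_add, ha, hb]
      | tmul a b => simp [f₃, f₂, ← hΔ]
    show f₃ (Algebra.TensorProduct.assoc k k k B B B (Algebra.TensorProduct.map Δ (AlgHom.id k B) (Δ b))) =
      f₃ (Algebra.TensorProduct.map (AlgHom.id k B) Δ (Δ b))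
    rw [e1, e2, hΔ, coassoc_apply]
  have a2 : (Algebra.TensorProduct.map ε (AlgHom.id k B)).comp Δ =
      (Algebra.TensorProduct.lid k B).symm.toAlgHom := by
    refine AlgHom.ext fun b => (Algebra.TensorProduct.lid k B).injective (hf ?_)
    have e1 : ∀ w : B ⊗[k] B, f (Algebra.TensorProduct.lid k B (Algebra.TensorProduct.map ε (AlgHom.id k B) w)) =
        TensorProduct.lid k A ((counit (R := k)).rTensor A (f₂ w)) := by
      intro w
      induction w using TensorProduct.induction_on with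
      | zero => simp
      | add a b ha hb => simp only [map_add, ha, hb]
      | tmul a b => simp [ε, f₂]
    rw [AlgHom.comp_apply, e1, hΔ, rTensor_counit_comul]
    simp
  have a3 : (Algebra.TensorProduct.map (AlgHom.id k B) ε).comp Δ =
      (Algebra.TensorProduct.rid k k B).symm.toAlgHom := by
    refine AlgHom.ext fun b => (Algebra.TensorProduct.rid k k B).injective (hf ?_)
    have e1 : ∀ w : B ⊗[k] B, f (Algebra.TensorProduct.rid k k B (Algebra.TensorProduct.map (AlgHom.id k B) ε w)) =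
        TensorProduct.rid k A ((counit (R := k)).lTensor A (f₂ w)) := by
      intro w
      induction w using TensorProduct.induction_on with
      | zero => simp
      | add a b ha hb => simp only [map_add, ha, hb]
      | tmul a b => simp [ε, f₂]
    rw [AlgHom.comp_apply, e1, hΔ, lTensor_counit_comul]
    simp
  letI bi : Bialgebra k B := Bialgebra.ofAlgHom Δ ε a1 a2 a3
  have a4 : (Algebra.TensorProduct.lift σ (AlgHom.id k B) fun _ _ => Commute.all _ _).comp Δ =
      (Algebra.ofId k B).comp ε := by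
    refine AlgHom.ext fun b => hf ?_
    have e1 : ∀ w : B ⊗[k] B, f (Algebra.TensorProduct.lift σ (AlgHom.id k B) (fun _ _ => Commute.all _ _) w) =
        LinearMap.mul' k A ((antipode k).rTensor A (f₂ w)) := by
      intro w
      induction w using TensorProduct.induction_on with
      | zero => simp
      | add a b ha hb => simp only [map_add, ha, hb]
      | tmul a b => simp [σ, f₂, hs]
    rw [AlgHom.comp_apply, e1, hΔ, mul_antipode_rTensor_comul_apply]
    simp [ε]
  have a5 : (Algebra.TensorProduct.lift (AlgHom.id k B) σ fun _ _ => Commute.all _ _).comp Δ =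
      (Algebra.ofId k B).comp ε := by
    refine AlgHom.ext fun b => hf ?_
    have e1 : ∀ w : B ⊗[k] B, f (Algebra.TensorProduct.lift (AlgHom.id k B) σ (fun _ _ => Commute.all _ _) w) =
        LinearMap.mul' k A ((antipode k).lTensor A (f₂ w)) := by
      intro w
      induction w using TensorProduct.induction_on with
      | zero => simp
      | add a b ha hb => simp only [map_add, ha, hb]
      | tmul a b => simp [σ, f₂, hs]
    rw [AlgHom.comp_apply, e1, hΔ, mul_antipode_lTensor_comul_apply]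
    simp [ε]
  letI hH : HopfAlgebra k B := HopfAlgebra.ofAlgHom σ a4 a5
  exact ⟨B, inferInstance, hH, BialgHom.ofAlgHom f (AlgHom.ext fun b => rfl) (AlgHom.ext fun b => hΔ b),
    hf, rfl, id⟩

/-- A finite set is contained in a finite set spanning a subcoalgebra. -/
theorem exists_matrix_entries (x : A) :
    ∃ M : Finset A, x ∈ Submodule.span k (M : Set A) ∧
      ∀ m ∈ M, ∃ (n : ℕ) (a b : Fin n → A), (∀ i, a i ∈ M ∧ b i ∈ M) ∧
        comul (R := k) m = ∑ i, a i ⊗ₜ[k] b i := by
  classical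
  obtain ⟨N, hN, hfin, hx⟩ := Comodule.exists_finite_subcomod (k := k) (A := A) (V := A) x
  haveI := hfin
  letI := Comodule.subComod (k := k) (A := A) N hN
  let e := Module.finBasis k N
  let X := Chevalley.matrixOf (A := A) e
  have hmul := Chevalley.isMul_matrixOf (A := A) e
  refine ⟨Finset.univ.image fun p : _ × _ => X p.1 p.2, ?_, ?_⟩
  · have h : ∀ j, (e j : A) ∈
        Submodule.span k ((Finset.univ.image fun p : _ × _ => X p.1 p.2 : Finset A) : Set A) := by
      intro j
      have h1 : comul (R := k) (e j : A) = ∑ i, (e i : A) ⊗ₜ[k] X i j := by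
        have := congrArg (N.subtype.rTensor A) (Chevalley.coact_basis (A := A) e j)
        rw [map_sum] at this
        exact (Comodule.rTensor_coactRestrict N hN (e j)).symm.trans this
      have h2 : (e j : A) = ∑ i, counit (R := k) (e i : A) • X i j := by
        have := congrArg (fun z => TensorProduct.lid k A ((counit (R := k)).rTensor A z)) h1
        simpa [rTensor_counit_comul] using this
      rw [h2]
      exact Submodule.sum_mem _ fun i _ => Submodule.smul_mem _ _ (Submodule.subset_span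
        (Finset.mem_coe.2 (Finset.mem_image.2 ⟨(i, j), Finset.mem_univ _, rfl⟩)))
    have hxr : x = ∑ j, e.repr ⟨x, hx⟩ j • (e j : A) := by
      have := congrArg Subtype.val (e.sum_repr ⟨x, hx⟩)
      simp only [AddSubmonoidClass.coe_finset_sum, Submodule.coe_smul] at this
      exact this.symm
    rw [hxr]
    exact Submodule.sum_mem _ fun j _ => Submodule.smul_mem _ _ (h j)
  · intro m hm
    obtain ⟨⟨i, j⟩, -, rfl⟩ := Finset.mem_image.1 hm
    exact ⟨_, fun l => X i l, fun l => X l j,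
      fun l => ⟨Finset.mem_image.2 ⟨(i, l), Finset.mem_univ _, rfl⟩,
        Finset.mem_image.2 ⟨(l, j), Finset.mem_univ _, rfl⟩⟩, hmul.comul i j⟩

/-- A finite set lies in a finitely generated Hopf subalgebra. -/
theorem exists_fg_isSub (s : Finset A) :
    ∃ T : Subalgebra k A, IsSub T ∧ T.FG ∧ ↑s ⊆ (T : Set A) := by
  classical
  choose M hM hMΔ using exists_matrix_entries (k := k) (A := A)
  let G : Finset A := s.biUnion M
  let S : Finset A := G ∪ G.image (antipode k)
  let T := Algebra.adjoin k (S : Set A)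
  refine ⟨T, ⟨?_, ?_⟩, ⟨S, rfl⟩, fun x hx => ?_⟩
  · let f := Algebra.TensorProduct.map T.val T.val
    suffices h : T ≤ f.range.comap (Bialgebra.comulAlgHom k A) from fun b hb => h hb
    refine Algebra.adjoin_le fun a ha => ?_
    show comul (R := k) a ∈ f.range
    have hG : ∀ g ∈ G, comul (R := k) g ∈ f.range ∧ comul (R := k) (antipode k g) ∈ f.range := by
      intro g hg
      obtain ⟨x, hx, hg⟩ := Finset.mem_biUnion.1 hg
      obtain ⟨n, a, b, hab, he⟩ := hMΔ x g hg
      have ha : ∀ i, a i ∈ T ∧ b i ∈ T ∧ antipode k (a i) ∈ T ∧ antipode k (b i) ∈ T := fun i => by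
        have h1 : a i ∈ G := Finset.mem_biUnion.2 ⟨x, hx, (hab i).1⟩
        have h2 : b i ∈ G := Finset.mem_biUnion.2 ⟨x, hx, (hab i).2⟩
        exact ⟨Algebra.subset_adjoin (Finset.mem_coe.2 (Finset.mem_union_left _ h1)),
          Algebra.subset_adjoin (Finset.mem_coe.2 (Finset.mem_union_left _ h2)),
          Algebra.subset_adjoin (Finset.mem_coe.2 (Finset.mem_union_right _ (Finset.mem_image_of_mem _ h1))),
          Algebra.subset_adjoin (Finset.mem_coe.2 (Finset.mem_union_right _ (Finset.mem_image_of_mem _ h2)))⟩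
      refine ⟨⟨∑ i, (⟨a i, (ha i).1⟩ : T) ⊗ₜ[k] (⟨b i, (ha i).2.1⟩ : T), by simp [f, he]⟩,
        ⟨∑ i, (⟨_, (ha i).2.2.2⟩ : T) ⊗ₜ[k] (⟨_, (ha i).2.2.1⟩ : T), ?_⟩⟩
      rw [CoalgH23.comul_antipode, he]
      simp [f, map_sum]
    rcases Finset.mem_union.1 (Finset.mem_coe.1 ha) with h | h
    · exact (hG a h).1
    · obtain ⟨g, hg, rfl⟩ := Finset.mem_image.1 h
      exact (hG g hg).2
  · suffices h : T ≤ T.comap (antipodeAlgHom k A) from fun b hb => h hb
    refine Algebra.adjoin_le fun a ha => ?_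
    show antipode k a ∈ T
    rcases Finset.mem_union.1 (Finset.mem_coe.1 ha) with h | h
    · exact Algebra.subset_adjoin (Finset.mem_coe.2 (Finset.mem_union_right _ (Finset.mem_image_of_mem _ h)))
    · obtain ⟨g, hg, rfl⟩ := Finset.mem_image.1 h
      rw [CoalgH23.antipode_antipode]
      exact Algebra.subset_adjoin (Finset.mem_coe.2 (Finset.mem_union_left _ hg))
  · have hle : Submodule.span k (M x : Set A) ≤ Subalgebra.toSubmodule T := Submodule.span_le.2 fun y hy =>
      Algebra.subset_adjoin (Finset.mem_coe.2 (Finset.mem_union_left _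
        (Finset.mem_biUnion.2 ⟨x, hx, hy⟩)))
    exact hle (hM x)


/-- A finitely generated algebra is small. -/
theorem exists_param {T : Subalgebra k A} (hT : T.FG) :
    ∃ (B : Type u) (_ : CommRing B) (_ : Algebra k B) (_ : Algebra.FiniteType k B) (f : B →ₐ[k] A),
      Function.Injective f ∧ f.range = T := by
  obtain ⟨s, hs⟩ := hT
  let F : MvPolynomial (Fin s.card) k →ₐ[k] A := MvPolynomial.aeval fun i => (s.equivFin.symm i : A)
  refine ⟨MvPolynomial (Fin s.card) k ⧸ RingHom.ker F, inferInstance, inferInstance, inferInstance,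
    Ideal.kerLiftAlg F, Ideal.kerLiftAlg_injective F, ?_⟩
  rw [← hs]
  refine le_antisymm ?_ ?_
  · rintro _ ⟨x, rfl⟩
    obtain ⟨x, rfl⟩ := Ideal.Quotient.mk_surjective x
    show F x ∈ _
    have : (MvPolynomial.aeval fun i => (s.equivFin.symm i : A)).range ≤ Algebra.adjoin k (s : Set A) := by
      rw [← Algebra.adjoin_range_eq_range_aeval]
      exact Algebra.adjoin_mono (by rintro _ ⟨i, rfl⟩; exact (s.equivFin.symm i).2)
    exact this ⟨x, rfl⟩
  · refine Algebra.adjoin_le fun x hx => ⟨Ideal.Quotient.mk _ (MvPolynomial.X (s.equivFin ⟨x, hx⟩)), ?_⟩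
    show F (MvPolynomial.X _) = x
    simp [F]

/-- A finitely generated Hopf subalgebra is a finitely generated Hopf algebra in the base universe. -/
theorem exists_hopf_fg {T : Subalgebra k A} (hT : IsSub T) (hfg : T.FG) :
    ∃ (B : Type u) (_ : CommRing B) (_ : HopfAlgebra k B) (_ : Algebra.FiniteType k B) (φ : B →ₐc[k] A),
      Function.Injective φ ∧ (φ : B →ₐ[k] A).range = T := by
  obtain ⟨B, _, _, hBft, f, hf, hfT⟩ := exists_param hfg
  subst hfT
  have hcomul : ∀ b, comul (R := k) (f b) ∈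
      LinearMap.range (TensorProduct.map f.toLinearMap f.toLinearMap) := by
    intro b
    obtain ⟨w, hw⟩ := hT.comul_mem (f b) ⟨b, rfl⟩
    have hsurj : Function.Surjective (TensorProduct.map f.rangeRestrict.toLinearMap f.rangeRestrict.toLinearMap) :=
      TensorProduct.map_surjective f.rangeRestrict_surjective f.rangeRestrict_surjective
    obtain ⟨w, rfl⟩ := hsurj w
    refine ⟨w, ?_⟩
    rw [← hw, ← LinearMap.comp_apply, ← TensorProduct.map_comp]
    rfl
  obtain ⟨B', _, _, φ, hφ, hr, hft⟩ :=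
    exists_hopf_of_injective f hf hcomul fun b => hT.antipode_mem (f b) ⟨b, rfl⟩
  exact ⟨B', inferInstance, inferInstance, hft hBft, φ, hφ, hr⟩

theorem isSub_range {C : Type w} [CommRing C] [HopfAlgebra k C] (f : C →ₐc[k] A) :
    IsSub (f : C →ₐ[k] A).range := by
  constructor
  · rintro _ ⟨x, rfl⟩
    refine ⟨TensorProduct.map ((f : C →ₐ[k] A).rangeRestrict).toLinearMap
      ((f : C →ₐ[k] A).rangeRestrict).toLinearMap (comul (R := k) x), ?_⟩
    rw [← LinearMap.comp_apply, ← TensorProduct.map_comp]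
    exact CoalgHomClass.map_comp_comul_apply f x
  · rintro _ ⟨x, rfl⟩
    exact ⟨antipode k x, HopfFF23.map_antipode f x⟩

theorem IsSub.map {C : Type w} [CommRing C] [HopfAlgebra k C] {P : Subalgebra k C} (hP : IsSub P)
    (f : C →ₐc[k] A) : IsSub (P.map (f : C →ₐ[k] A)) := by
  constructor
  · rintro _ ⟨x, hx, rfl⟩
    obtain ⟨w, hw⟩ := hP.comul_mem x hx
    let r : P →ₗ[k] P.map (f : C →ₐ[k] A) :=
      (((f : C →ₐ[k] A).comp P.val).codRestrict (P.map (f : C →ₐ[k] A)) fun y => ⟨y, y.2, rfl⟩).toLinearMap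
    refine ⟨TensorProduct.map r r w, ?_⟩
    refine Eq.trans ?_ (CoalgHomClass.map_comp_comul_apply f x)
    rw [← hw]
    clear hw
    induction w using TensorProduct.induction_on with
    | zero => simp
    | add a b ha hb => simp only [map_add, ha, hb]
    | tmul a b => rfl
  · rintro _ ⟨x, hx, rfl⟩
    exact ⟨antipode k x, hP.antipode_mem x hx, HopfFF23.map_antipode f x⟩

theorem IsSub.mem_range_mono {B B' : Subalgebra k A} (h : B ≤ B') {z : A ⊗[k] A}
    (hz : z ∈ LinearMap.range (TensorProduct.map B.val.toLinearMap B.val.toLinearMap)) :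
    z ∈ LinearMap.range (TensorProduct.map B'.val.toLinearMap B'.val.toLinearMap) := by
  obtain ⟨w, rfl⟩ := hz
  refine ⟨TensorProduct.map (Subalgebra.inclusion h).toLinearMap (Subalgebra.inclusion h).toLinearMap w, ?_⟩
  rw [← LinearMap.comp_apply, ← TensorProduct.map_comp]
  rfl

theorem isSub_bot : IsSub (⊥ : Subalgebra k A) := by
  constructor
  · intro b hb
    obtain ⟨c, rfl⟩ := Algebra.mem_bot.1 hb
    refine ⟨algebraMap k (⊥ : Subalgebra k A) c ⊗ₜ 1, ?_⟩
    rw [Bialgebra.comul_algebraMap, Algebra.TensorProduct.algebraMap_apply]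
    rfl
  · intro b hb
    obtain ⟨c, rfl⟩ := Algebra.mem_bot.1 hb
    exact ⟨c, ((antipodeAlgHom k A).commutes c).symm⟩

theorem IsSub.sup {B T : Subalgebra k A} (hB : IsSub B) (hT : IsSub T) : IsSub (B ⊔ T) := by
  let f := Algebra.TensorProduct.map (B ⊔ T).val (B ⊔ T).val
  have hl : B ⊔ T ≤ f.range.comap (Bialgebra.comulAlgHom k A) :=
    sup_le (fun b hb => IsSub.mem_range_mono le_sup_left (hB.comul_mem b hb))
      (fun b hb => IsSub.mem_range_mono le_sup_right (hT.comul_mem b hb))
  have hr : B ⊔ T ≤ (B ⊔ T).comap (antipodeAlgHom k A) :=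
    sup_le (fun b hb => (le_sup_left : B ≤ B ⊔ T) (hB.antipode_mem b hb))
      (fun b hb => (le_sup_right : T ≤ B ⊔ T) (hT.antipode_mem b hb))
  exact ⟨fun b hb => hl hb, fun b hb => hr hb⟩

/-- A finite subset of a Hopf subalgebra lies in a finitely generated one inside it. -/
theorem IsSub.exists_fg_le {B : Subalgebra k A} (hB : IsSub B) (s : Finset A) (hs : ↑s ⊆ (B : Set A)) :
    ∃ B₀ : Subalgebra k A, IsSub B₀ ∧ B₀.FG ∧ B₀ ≤ B ∧ ↑s ⊆ (B₀ : Set A) := by
  classical
  obtain ⟨H, _, _, φ, -, hr, -⟩ := exists_hopf_of_injective B.val Subtype.val_injective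
    (fun b => hB.comul_mem b.1 b.2) fun b => ⟨⟨_, hB.antipode_mem b.1 b.2⟩, rfl⟩
  rw [Subalgebra.range_val] at hr
  have hpre : ∀ x : s, ∃ y : H, φ y = x.1 := fun x => by
    have h : x.1 ∈ (φ : H →ₐ[k] A).range := hr.symm ▸ hs x.2
    exact h
  choose y hy using hpre
  obtain ⟨T₀, hT₀, hT₀fg, hsT⟩ := exists_fg_isSub (k := k) (A := H) (Finset.univ.image y)
  refine ⟨T₀.map (φ : H →ₐ[k] A), hT₀.map φ, hT₀fg.map _, ?_, fun x hx => ?_⟩
  · rintro _ ⟨x, -, rfl⟩
    exact hr ▸ ⟨x, rfl⟩
  · exact ⟨y ⟨x, hx⟩, hsT (Finset.mem_coe.2 (Finset.mem_image_of_mem _ (Finset.mem_univ _))), hy _⟩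

/-- The ideal of a proper ideal of a Hopf subalgebra stays proper in the whole algebra. -/
theorem IsSub.map_ne_top {B : Subalgebra k A} (hB : IsSub B) {m : Ideal B} (hm : m ≠ ⊤) :
    m.map B.val.toRingHom ≠ ⊤ := by
  classical
  intro htop
  have h1 : (1 : A) ∈ m.map B.val.toRingHom := by rw [htop]; exact Submodule.mem_top
  rw [Ideal.map, Ideal.span, Submodule.mem_span_iff_exists_finset_subset] at h1
  obtain ⟨c, S, hS, -, hc⟩ := h1
  choose b hbm hb using fun z : S => hS z.2
  obtain ⟨B₀, hB₀, hB₀fg, hB₀le, hsB₀⟩ := hB.exists_fg_le S (fun x hx => by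
    have := (b ⟨x, hx⟩).2
    rwa [show ((b ⟨x, hx⟩ : B) : A) = x from hb ⟨x, hx⟩] at this)
  obtain ⟨gen, hgen⟩ := hB₀fg
  obtain ⟨A₀, hA₀, hA₀fg, ht⟩ := exists_fg_isSub (k := k) ((Finset.univ.image fun z : S => c z.1) ∪ gen)
  have hle : B₀ ≤ A₀ := by
    rw [← hgen]
    exact Algebra.adjoin_le fun x hx => ht (Finset.mem_coe.2 (Finset.mem_union_right _ hx))
  obtain ⟨P, _, _, hPft, φ, hφ, hφB⟩ := exists_hopf_fg hB₀ ⟨gen, hgen⟩
  obtain ⟨Q, _, _, hQft, ψ, hψ, hψA⟩ := exists_hopf_fg hA₀ hA₀fg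
  have hex : ∀ p : P, ∃ q : Q, ψ q = φ p := fun p => by
    have h : φ p ∈ (ψ : Q →ₐ[k] A).range := hψA ▸ hle (hφB ▸ ⟨p, rfl⟩)
    exact h
  choose g₀ hg₀ using hex
  let g : P →ₐ[k] Q :=
    { toFun := g₀
      map_one' := hψ (by simp [hg₀])
      map_mul' := fun x y => hψ (by simp [hg₀])
      map_zero' := hψ (by simp [hg₀])
      map_add' := fun x y => hψ (by simp [hg₀])
      commutes' := fun r => hψ (by rw [hg₀]; exact ((φ : P →ₐ[k] A).commutes r).trans ((ψ : Q →ₐ[k] A).commutes r).symm) }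
  have hg : ∀ p, ψ (g p) = φ p := hg₀
  let gB : P →ₐc[k] Q := BialgHom.ofAlgHom g
    (AlgHom.ext fun x => by
      show Coalgebra.counit (R := k) (g x) = Coalgebra.counit (R := k) x
      rw [← CoalgHomClass.counit_comp_apply ψ (g x), hg, CoalgHomClass.counit_comp_apply φ x])
    (AlgHom.ext fun x => by
      refine TensorProduct.map_injective_of_flat_flat ψ.toLinearMap ψ.toLinearMap hψ hψ ?_
      refine Eq.trans ?_ (CoalgHomClass.map_comp_comul_apply ψ (g x)).symm
      rw [hg, ← CoalgHomClass.map_comp_comul_apply φ x]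
      show TensorProduct.map ψ.toLinearMap ψ.toLinearMap
          (Algebra.TensorProduct.map g g (Coalgebra.comul (R := k) x)) = _
      induction Coalgebra.comul (R := k) x using TensorProduct.induction_on with
      | zero => simp
      | add a b ha hb => simp only [map_add, ha, hb]
      | tmul a b =>
        show ψ (g a) ⊗ₜ[k] ψ (g b) = φ a ⊗ₜ[k] φ b
        rw [hg, hg])
  have hff : (g : P →+* Q).FaithfullyFlat := HopfFF23.faithfullyFlat_of_injective gB fun x y hxy => hφ (by
    rw [← hg, ← hg]; exact congrArg ψ hxy)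
  have hφmem : ∀ p, φ p ∈ B := fun p => hB₀le (hφB ▸ ⟨p, rfl⟩)
  let toB : P →+* B := ((φ : P →ₐ[k] A).codRestrict B hφmem).toRingHom
  have hp : ∀ z : S, ∃ p : P, φ p = (z.1 : A) ∧ toB p ∈ m := fun z => by
    have h : (z.1 : A) ∈ (φ : P →ₐ[k] A).range := hφB.symm ▸ hsB₀ z.2
    obtain ⟨p, hp⟩ := h
    refine ⟨p, hp, ?_⟩
    have : toB p = b z := Subtype.ext (hp.trans (hb z).symm)
    rw [this]
    exact hbm z
  have hq : ∀ z : S, ∃ q : Q, ψ q = c z.1 := fun z => by
    have h : c z.1 ∈ (ψ : Q →ₐ[k] A).range := hψA.symm ▸ ht (Finset.mem_coe.2 (Finset.mem_union_left _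
      (Finset.mem_image_of_mem _ (Finset.mem_univ z))))
    exact h
  choose p hp hpm using hp
  choose q hq using hq
  have h2 : (1 : Q) ∈ (m.comap toB).map (g : P →+* Q) := by
    have e : (1 : Q) = ∑ z : S, q z * g (p z) := hψ (by
      rw [map_one, map_sum, ← hc, ← Finset.sum_coe_sort]
      refine Finset.sum_congr rfl fun z _ => ?_
      rw [map_mul, hq, hg, hp, smul_eq_mul])
    rw [e]
    exact Ideal.sum_mem _ fun z _ => Ideal.mul_mem_left _ _ (Ideal.mem_map_of_mem _ (hpm z))
  obtain ⟨_, hs⟩ := RingHom.FaithfullyFlat.iff_flat_and_comap_surjective.1 hff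
  obtain ⟨M, hM, hmM⟩ := Ideal.exists_le_maximal (m.comap toB) (Ideal.comap_ne_top _ hm)
  obtain ⟨N, hN⟩ := hs ⟨M, hM.isPrime⟩
  have hle' : (m.comap toB).map (g : P →+* Q) ≤ N.asIdeal := by
    rw [Ideal.map_le_iff_le_comap]
    intro x hx
    have hx' : x ∈ M := hmM hx
    rw [← show (PrimeSpectrum.comap (g : P →+* Q) N).asIdeal = M from congrArg PrimeSpectrum.asIdeal hN] at hx'
    exact hx'
  exact N.isPrime.ne_top ((Ideal.eq_top_iff_one _).2 (hle' h2))

section points

variable [IsAlgClosed k]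

theorem exists_point_ker {R : Type w} [CommRing R] [Algebra k R] [Algebra.FiniteType k R] (M : Ideal R)
    [M.IsMaximal] : ∃ h : R →ₐ[k] k, RingHom.ker h = M := by
  letI := Ideal.Quotient.field M
  haveI : Algebra.FiniteType k (R ⧸ M) :=
    (inferInstance : Algebra.FiniteType k R).of_surjective (Ideal.Quotient.mkₐ k M) Ideal.Quotient.mk_surjective
  haveI : Module.Finite k (R ⧸ M) := finite_of_finite_type_of_isJacobsonRing k (R ⧸ M)
  let e : k ≃ₐ[k] R ⧸ M := AlgEquiv.ofBijective (Algebra.ofId k (R ⧸ M))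
    (IsAlgClosed.algebraMap_bijective_of_isIntegral (k := k) (K := R ⧸ M))
  refine ⟨e.symm.toAlgHom.comp (Ideal.Quotient.mkₐ k M), ?_⟩
  ext y
  rw [RingHom.mem_ker]
  show e.symm (Ideal.Quotient.mk M y) = 0 ↔ y ∈ M
  rw [EmbeddingLike.map_eq_zero_iff, Ideal.Quotient.eq_zero_iff_mem]

theorem exists_point_ne_zero {R : Type w} [CommRing R] [Algebra k R] [Algebra.FiniteType k R] {a : R}
    (ha : ¬ IsNilpotent a) : ∃ z : R →ₐ[k] k, z a ≠ 0 := by
  haveI : IsJacobsonRing R := isJacobsonRing_of_finiteType (A := k)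
  by_contra hall
  push Not at hall
  refine ha ?_
  rw [← mem_nilradical]
  have h1 : nilradical R = (nilradical R).jacobson :=
    ((isJacobsonRing_iff.1 inferInstance) _ (Ideal.radical_isRadical ⊥)).symm
  rw [h1, Ideal.jacobson, Submodule.mem_sInf]
  rintro M ⟨-, hM⟩
  obtain ⟨z, hz⟩ := exists_point_ker (k := k) M
  rw [← hz]
  exact hall z

/-- One step: a point of a Hopf subalgebra extends to the join with a finitely generated one. -/
theorem IsSub.exists_extend_sup {B T : Subalgebra k A} (hB : IsSub B) (hT : T.FG) (z : B →ₐ[k] k) :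
    ∃ z' : (B ⊔ T : Subalgebra k A) →ₐ[k] k, ∀ b : B, z' (Subalgebra.inclusion le_sup_left b) = z b := by
  classical
  obtain ⟨gen, hgen⟩ := hT
  let B' : Subalgebra k A := B ⊔ T
  let ι : B →ₐ[k] B' := Subalgebra.inclusion le_sup_left
  let I : Ideal B' := (RingHom.ker z).map ι.toRingHom
  let q : B' →ₐ[k] B' ⧸ I := Ideal.Quotient.mkₐ k I
  have hIne : I ≠ ⊤ := by
    intro htop
    refine hB.map_ne_top (m := RingHom.ker z) (RingHom.ker_ne_top _) ?_
    have : (RingHom.ker z).map B.val.toRingHom = I.map B'.val.toRingHom := by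
      rw [Ideal.map_map]; rfl
    rw [this, htop, Ideal.map_top]
  have hιq : ∀ b : B, q (ι b) = algebraMap k _ (z b) := fun b => by
    rw [← sub_eq_zero, ← q.commutes, ← map_sub, ← ι.commutes, ← map_sub]
    exact Ideal.Quotient.eq_zero_iff_mem.2 (Ideal.mem_map_of_mem _ (by simp [RingHom.mem_ker]))
  haveI : Algebra.FiniteType k (B' ⧸ I) := by
    refine ⟨⟨gen.attach.image fun x => q ⟨x.1, (le_sup_right : T ≤ B') (hgen ▸ Algebra.subset_adjoin x.2)⟩, ?_⟩⟩
    rw [eq_top_iff]
    intro y _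
    obtain ⟨⟨y, hy⟩, rfl⟩ := Ideal.Quotient.mkₐ_surjective k I y
    let S := Algebra.adjoin k
      ((gen.attach.image fun x => q ⟨x.1, (le_sup_right : T ≤ B') (hgen ▸ Algebra.subset_adjoin x.2)⟩ : Finset _) :
        Set (B' ⧸ I))
    have : B' ≤ (S.comap q).map B'.val := by
      refine sup_le (fun b hb => ⟨ι ⟨b, hb⟩, ?_, rfl⟩) ?_
      · show q (ι ⟨b, hb⟩) ∈ S
        rw [hιq]
        exact S.algebraMap_mem _
      · rw [← hgen]
        refine Algebra.adjoin_le fun x hx => ⟨⟨x, (le_sup_right : T ≤ B') (hgen ▸ Algebra.subset_adjoin hx)⟩,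
          Algebra.subset_adjoin (Finset.mem_coe.2 (Finset.mem_image.2 ⟨⟨x, hx⟩, Finset.mem_attach _ _, rfl⟩)), rfl⟩
    obtain ⟨y', hy', hyy⟩ := this hy
    have : y' = ⟨y, hy⟩ := Subtype.ext hyy
    subst this
    exact hy'
  haveI : Nontrivial (B' ⧸ I) := Ideal.Quotient.nontrivial_iff.2 hIne
  obtain ⟨M, hM⟩ := Ideal.exists_maximal (B' ⧸ I)
  obtain ⟨h, -⟩ := exists_point_ker (k := k) M
  refine ⟨h.comp q, fun b => ?_⟩
  show h (q (ι b)) = _
  rw [hιq, h.commutes]
  rfl

/-- A rational point of a Hopf subalgebra extends. -/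
theorem IsSub.exists_extend {B : Subalgebra k A} (hB : IsSub B) (z : B →ₐ[k] k) :
    ∃ z' : A →ₐ[k] k, ∀ b : B, z' b = z b := by
  classical
  let p : A × k →ₐ[k] A := AlgHom.fst k A k
  let S : Set (Subalgebra k (A × k)) := {Γ | Set.InjOn p Γ ∧ IsSub (Γ.map p)}
  have h₀ : (B.val.prod z).range ∈ S := by
    refine ⟨?_, ?_⟩
    · rintro _ ⟨x, rfl⟩ _ ⟨y, rfl⟩ h
      have : x = y := Subtype.ext h
      rw [this]
    · rwa [← AlgHom.range_comp, show p.comp (B.val.prod z) = B.val from AlgHom.ext fun _ => rfl, B.range_val]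
  obtain ⟨Γ, hle, hΓ, hmax⟩ := zorn_le_nonempty₀ S (fun c hc hchain y hy => by
    haveI : Nonempty c := ⟨⟨y, hy⟩⟩
    have hdir : Directed (· ≤ ·) (fun x : c => (x.1 : Subalgebra k (A × k))) := by
      rintro ⟨x, hx⟩ ⟨x', hx'⟩
      rcases hchain.total hx hx' with h | h
      · exact ⟨⟨x', hx'⟩, h, le_rfl⟩
      · exact ⟨⟨x, hx⟩, le_rfl, h⟩
    refine ⟨⨆ x : c, x.1, ⟨?_, ?_⟩, fun x hx => le_iSup (fun x : c => x.1) ⟨x, hx⟩⟩
    · intro a ha b hb hab
      rw [Subalgebra.coe_iSup_of_directed hdir, Set.mem_iUnion] at ha hb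
      obtain ⟨i, hi⟩ := ha
      obtain ⟨j, hj⟩ := hb
      obtain ⟨l, hil, hjl⟩ := hdir i j
      exact (hc l.2).1 (hil hi) (hjl hj) hab
    · have hmem : ∀ b ∈ (⨆ x : c, x.1).map p, ∃ x : c, b ∈ x.1.map p := by
        rintro _ ⟨a, ha, rfl⟩
        replace ha : a ∈ ((⨆ x : c, x.1 : Subalgebra k (A × k)) : Set (A × k)) := ha
        rw [Subalgebra.coe_iSup_of_directed hdir, Set.mem_iUnion] at ha
        exact ⟨ha.choose, a, ha.choose_spec, rfl⟩
      constructor
      · intro b hb
        obtain ⟨x, hx⟩ := hmem b hb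
        exact IsSub.mem_range_mono (Subalgebra.map_mono (le_iSup (fun x : c => x.1) x)) ((hc x.2).2.comul_mem b hx)
      · intro b hb
        obtain ⟨x, hx⟩ := hmem b hb
        exact Subalgebra.map_mono (le_iSup (fun x : c => x.1) x) ((hc x.2).2.antipode_mem b hx)) _ h₀
  let e : Γ →ₐ[k] (Γ.map p : Subalgebra k A) := (p.comp Γ.val).codRestrict _ fun x => ⟨x.1, x.2, rfl⟩
  have he : Function.Bijective e := by
    refine ⟨fun x y h => Subtype.ext (hΓ.1 x.2 y.2 (congrArg Subtype.val h)), ?_⟩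
    rintro ⟨_, a, ha, rfl⟩
    exact ⟨⟨a, ha⟩, rfl⟩
  let e' := AlgEquiv.ofBijective e he
  let w : (Γ.map p : Subalgebra k A) →ₐ[k] k := ((AlgHom.snd k A k).comp Γ.val).comp e'.symm.toAlgHom
  have htop : ∀ a : A, a ∈ Γ.map p := by
    intro a
    obtain ⟨T, hT, hTfg, ha⟩ := exists_fg_isSub (k := k) ({a} : Finset A)
    obtain ⟨w', hw'⟩ := hΓ.2.exists_extend_sup hTfg w
    let Γ' := ((Γ.map p ⊔ T).val.prod w').range
    have hΓ' : Γ' ∈ S := by
      refine ⟨?_, ?_⟩
      · rintro _ ⟨x, rfl⟩ _ ⟨y, rfl⟩ h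
        have : x = y := Subtype.ext h
        rw [this]
      · rw [← AlgHom.range_comp, show p.comp ((Γ.map p ⊔ T).val.prod w') = (Γ.map p ⊔ T).val from
          AlgHom.ext fun _ => rfl, Subalgebra.range_val]
        exact hΓ.2.sup hT
    have hle' : Γ ≤ Γ' := fun x hx => by
      refine ⟨Subalgebra.inclusion le_sup_left (e ⟨x, hx⟩), ?_⟩
      refine Prod.ext rfl ?_
      show w' _ = _
      rw [hw']
      show (AlgHom.snd k A k) (Γ.val (e'.symm (e' ⟨x, hx⟩))) = _
      rw [AlgEquiv.symm_apply_apply]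
      rfl
    have hΓΓ' : Γ' ≤ Γ := hmax hΓ' hle'
    have : a ∈ Γ'.map p := ⟨_, ⟨⟨a, (le_sup_right : T ≤ _) (ha (by simp))⟩, rfl⟩, rfl⟩
    exact Subalgebra.map_mono hΓΓ' this
  refine ⟨w.comp ((AlgHom.id k A).codRestrict _ htop), fun b => ?_⟩
  have hb : ((b : A), z b) ∈ Γ := hle ⟨b, rfl⟩
  show (AlgHom.snd k A k) (Γ.val (e'.symm ⟨(b : A), htop _⟩)) = _
  rw [show e'.symm ⟨(b : A), htop _⟩ = ⟨((b : A), z b), hb⟩ from e'.injective (by
    rw [AlgEquiv.apply_symm_apply]; rfl)]
  rfl

/-- Rational points detect non-nilpotent elements. -/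
theorem exists_point_ne_zero' {a : A} (ha : ¬ IsNilpotent a) : ∃ z : A →ₐ[k] k, z a ≠ 0 := by
  obtain ⟨T, hT, hTfg, haT⟩ := exists_fg_isSub (k := k) ({a} : Finset A)
  haveI : Algebra.FiniteType k T := (Subalgebra.fg_iff_finiteType _).1 hTfg
  obtain ⟨z, hz⟩ := exists_point_ne_zero (k := k) (R := T) (a := ⟨a, haT (by simp)⟩)
    fun h => ha (h.map T.val)
  obtain ⟨z', hz'⟩ := hT.exists_extend z
  exact ⟨z', by rw [hz' ⟨a, haT (by simp)⟩]; exact hz⟩

end points

end Groth.Agent.HopfPts19
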