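import Groth.Agent.Lib.HopfPts19.Basic
import Groth.Agent.Lib.HopfFlat20.Main

/-!
# Torsors under a commutative Hopf algebra over an algebraically closed field have a rational point

`R` is a nonzero algebra whose functor of points is a pseudo-torsor under the points of `A`.
For a Hopf subalgebra `B` the quotient torsor is the subalgebra `sub B` of the `r` whose coaction lies in
`B ⊗ R`.  A Zorn argument over pairs (`B`, point of `sub B`) produces a point of `R`.
-/

set_option linter.style.haveILetI false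

universe u

open TensorProduct Coalgebra WithConv

noncomputable section

namespace Groth.Agent.HopfPts19

variable (k : Type u) [Field k] (A : Type u) [CommRing A] [HopfAlgebra k A]
  (R : Type u) [CommRing R] [Algebra k R]

/-- A simply transitive action of the points of `A` on the points of `R`. -/
structure TorsorPts where
  /-- The action. -/
  smul : ∀ {C : Type u} [CommRing C] [Algebra k C], WithConv (A →ₐ[k] C) → (R →ₐ[k] C) → (R →ₐ[k] C)
  mul_smul : ∀ {C : Type u} [CommRing C] [Algebra k C] (g h : WithConv (A →ₐ[k] C)) (x : R →ₐ[k] C),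
    smul (g * h) x = smul g (smul h x)
  nat : ∀ {C D : Type u} [CommRing C] [Algebra k C] [CommRing D] [Algebra k D] (f : C →ₐ[k] D)
    (g : WithConv (A →ₐ[k] C)) (x : R →ₐ[k] C),
    f.comp (smul g x) = smul (toConv (f.comp g.ofConv)) (f.comp x)
  trans : ∀ {C : Type u} [CommRing C] [Algebra k C] (x y : R →ₐ[k] C), ∃ g, smul g y = x
  free : ∀ {C : Type u} [CommRing C] [Algebra k C] (g h : WithConv (A →ₐ[k] C)) (x : R →ₐ[k] C),
    smul g x = smul h x → g = h

namespace TorsorPts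

variable {k A R} (P : TorsorPts k A R)

open Algebra.TensorProduct in
/-- The coaction. -/
def ρ : R →ₐ[k] A ⊗[k] R := P.smul (toConv includeLeft) includeRight

open Algebra.TensorProduct in
/-- The transporter. -/
def θ : A →ₐ[k] R ⊗[k] R := (P.trans (C := R ⊗[k] R) includeLeft includeRight).choose.ofConv

open Algebra.TensorProduct in
theorem smul_θ : P.smul (toConv P.θ) includeRight = (includeLeft : R →ₐ[k] R ⊗[k] R) :=
  (P.trans (C := R ⊗[k] R) includeLeft includeRight).choose_spec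

open Algebra.TensorProduct in
/-- The shear map. -/
def Φ : R ⊗[k] R →ₐ[k] A ⊗[k] R := lift P.ρ includeRight fun _ _ => Commute.all _ _

open Algebra.TensorProduct in
theorem Φ_θ (a : A) : P.Φ (P.θ a) = a ⊗ₜ[k] (1 : R) := by
  have h1 : P.Φ.comp (includeLeft : R →ₐ[k] R ⊗[k] R) = P.ρ := lift_comp_includeLeft _ _ _
  have h2 : P.Φ.comp (includeRight : R →ₐ[k] R ⊗[k] R) = includeRight := by ext x; simp [Φ]
  have h3 := congrArg P.Φ.comp P.smul_θ
  rw [P.nat, h1, h2, ofConv_toConv] at h3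
  have h4 := P.free (toConv (P.Φ.comp P.θ)) (toConv includeLeft) includeRight h3
  exact DFunLike.congr_fun (congrArg WithConv.ofConv h4) a

open Algebra.TensorProduct in
/-- The inverse of the shear map. -/
def Ψ : A ⊗[k] R →ₐ[k] R ⊗[k] R := lift P.θ includeRight fun _ _ => Commute.all _ _

open Algebra.TensorProduct in
theorem Ψ_Φ (z : R ⊗[k] R) : P.Ψ (P.Φ z) = z := by
  have hA : P.Ψ.comp (includeLeft : A →ₐ[k] A ⊗[k] R) = P.θ := lift_comp_includeLeft _ _ _
  have hR : P.Ψ.comp (includeRight : R →ₐ[k] A ⊗[k] R) = includeRight := by ext x; simp [Ψ]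
  have h1 : P.Ψ.comp P.ρ = includeLeft := by
    rw [ρ, P.nat, hA, hR, P.smul_θ]
  have h : P.Ψ.comp P.Φ = AlgHom.id k _ := by
    refine Algebra.TensorProduct.ext ?_ ?_
    · rw [AlgHom.comp_assoc, show P.Φ.comp includeLeft = P.ρ from lift_comp_includeLeft _ _ _, h1]
      exact (AlgHom.id_comp _).symm
    · ext x; simp [Φ, Ψ]
  exact DFunLike.congr_fun h z

open Algebra.TensorProduct in
theorem ρ_θ (a : A) :
    map P.ρ (AlgHom.id k R) (P.θ a) =
      (Algebra.TensorProduct.assoc k k k A R R).symm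
        (map (AlgHom.id k A) P.θ (Coalgebra.comul (R := k) a)) := by
  let φ : R ⊗[k] R →ₐ[k] (A ⊗[k] R) ⊗[k] R := map P.ρ (AlgHom.id k R)
  let g : A →ₐ[k] (A ⊗[k] R) ⊗[k] R := includeLeft.comp includeLeft
  let x : R →ₐ[k] (A ⊗[k] R) ⊗[k] R := includeLeft.comp includeRight
  let y : R →ₐ[k] (A ⊗[k] R) ⊗[k] R := includeRight
  let ψ : R ⊗[k] R →ₐ[k] (A ⊗[k] R) ⊗[k] R := lift x y fun _ _ => Commute.all _ _
  have hψ1 : ψ.comp includeLeft = x := lift_comp_includeLeft _ _ _
  have hψ2 : ψ.comp includeRight = y := by ext r; simp [ψ]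
  have hτ : P.smul (toConv (ψ.comp P.θ)) y = x := by
    have := congrArg ψ.comp P.smul_θ
    rwa [P.nat, hψ1, hψ2] at this
  have hgx : P.smul (toConv g) x = φ.comp includeLeft := by
    have e : φ.comp includeLeft = (includeLeft : A ⊗[k] R →ₐ[k] (A ⊗[k] R) ⊗[k] R).comp P.ρ := by
      ext r; simp [φ]
    rw [e, ρ, P.nat]
  have hφ : P.smul (toConv (φ.comp P.θ)) y = φ.comp includeLeft := by
    have := congrArg φ.comp P.smul_θ
    rwa [P.nat, show φ.comp includeRight = y from by ext r; simp [φ, y]] at this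
  have key : toConv (φ.comp P.θ) = toConv g * toConv (ψ.comp P.θ) :=
    P.free _ _ y (by rw [hφ, P.mul_smul, hτ, hgx])
  have := DFunLike.congr_fun (congrArg WithConv.ofConv key) a
  refine this.trans ?_
  rw [AlgHom.convMul_apply]
  clear this
  generalize Coalgebra.comul (R := k) a = w
  induction w with
  | zero => simp
  | add p q hp hq => simp only [map_add, hp, hq]
  | tmul p q =>
    show g p * ψ (P.θ q) = _
    simp only [Algebra.TensorProduct.map_tmul, AlgHom.coe_id, id_eq]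
    generalize P.θ q = v
    induction v with
    | zero => simp
    | add c d hc hd => simp only [mul_add, map_add, tmul_add, hc, hd]
    | tmul c d => simp [g, ψ, x, y]

/-- The subalgebra of the quotient torsor. -/
def sub (B : Subalgebra k A) : Subalgebra k R :=
  (Algebra.TensorProduct.map B.val (AlgHom.id k R)).range.comap P.ρ

theorem sub_mono {B B' : Subalgebra k A} (h : B ≤ B') : P.sub B ≤ P.sub B' := by
  intro r hr
  obtain ⟨w, hw⟩ := hr
  refine ⟨Algebra.TensorProduct.map (Subalgebra.inclusion h) (AlgHom.id k R) w, ?_⟩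
  refine Eq.trans ?_ hw
  show ((Algebra.TensorProduct.map B'.val (AlgHom.id k R)).comp
    (Algebra.TensorProduct.map (Subalgebra.inclusion h) (AlgHom.id k R))) w = _
  rw [← Algebra.TensorProduct.map_comp]
  rfl

/-- The subalgebra of the elements whose image under `θ` lies in `S ⊗ R`. -/
def good (S : Subalgebra k R) : Subalgebra k A :=
  (Algebra.TensorProduct.map S.val (AlgHom.id k R)).range.comap P.θ

theorem good_mono {S S' : Subalgebra k R} (h : S ≤ S') : P.good S ≤ P.good S' := by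
  intro a ha
  obtain ⟨w, hw⟩ := ha
  refine ⟨Algebra.TensorProduct.map (Subalgebra.inclusion h) (AlgHom.id k R) w, ?_⟩
  refine Eq.trans ?_ hw
  show ((Algebra.TensorProduct.map S'.val (AlgHom.id k R)).comp
    (Algebra.TensorProduct.map (Subalgebra.inclusion h) (AlgHom.id k R))) w = _
  rw [← Algebra.TensorProduct.map_comp]
  rfl

omit [HopfAlgebra k A] in
/-- Membership in `S ⊗ R` is vanishing in `(M / S) ⊗ R`. -/
theorem mem_range_iff {M : Type u} [CommRing M] [Algebra k M] (S : Subalgebra k M) (z : M ⊗[k] R) :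
    z ∈ (Algebra.TensorProduct.map S.val (AlgHom.id k R)).range ↔
      (Subalgebra.toSubmodule S).mkQ.rTensor R z = 0 := by
  have hex : Function.Exact ((Subalgebra.toSubmodule S).subtype.rTensor R)
      ((Subalgebra.toSubmodule S).mkQ.rTensor R) :=
    rTensor_exact R (LinearMap.exact_subtype_mkQ _) (Submodule.mkQ_surjective _)
  exact (hex z).symm

theorem le_good_sub {B : Subalgebra k A} (hB : IsSub B) : B ≤ P.good (P.sub B) := by
  intro b hb
  show P.θ b ∈ (Algebra.TensorProduct.map (P.sub B).val (AlgHom.id k R)).range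
  rw [mem_range_iff]
  let f : R →ₗ[k] (A ⧸ Subalgebra.toSubmodule B) ⊗[k] R :=
    (Subalgebra.toSubmodule B).mkQ.rTensor R ∘ₗ P.ρ.toLinearMap
  have hker : LinearMap.ker f = Subalgebra.toSubmodule (P.sub B) :=
    Submodule.ext fun r => (mem_range_iff B (P.ρ r)).symm
  let f' : (R ⧸ Subalgebra.toSubmodule (P.sub B)) →ₗ[k] (A ⧸ Subalgebra.toSubmodule B) ⊗[k] R :=
    (Subalgebra.toSubmodule (P.sub B)).liftQ f hker.ge
  have hf' : Function.Injective f' := LinearMap.ker_eq_bot.1 (Submodule.ker_liftQ_eq_bot _ _ _ hker.le)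
  refine Module.Flat.rTensor_preserves_injective_linearMap (M := R) f' hf' ?_
  rw [map_zero, ← LinearMap.comp_apply, ← LinearMap.rTensor_comp, Submodule.liftQ_mkQ,
    LinearMap.rTensor_comp_apply]
  show (LinearMap.rTensor R _) (Algebra.TensorProduct.map P.ρ (AlgHom.id k R) (P.θ b)) = 0
  rw [P.ρ_θ]
  obtain ⟨w, hw⟩ := hB.comul_mem b hb
  rw [← hw]
  clear hw
  induction w with
  | zero => simp
  | add p q hp hq => simp only [map_add, hp, hq, add_zero]
  | tmul p q =>
    simp only [TensorProduct.map_tmul, AlgHom.toLinearMap_apply, Subalgebra.coe_val,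
      Algebra.TensorProduct.map_tmul, AlgHom.coe_id, id_eq]
    generalize P.θ q.1 = v
    induction v with
    | zero => simp
    | add c d hc hd => simp only [map_add, tmul_add, hc, hd, add_zero]
    | tmul c d =>
      simp only [Algebra.TensorProduct.assoc_symm_tmul, LinearMap.rTensor_tmul]
      rw [show (Subalgebra.toSubmodule B).mkQ (p : A) = 0 from (Submodule.Quotient.mk_eq_zero _).2 p.2,
        zero_tmul, zero_tmul]

/-- The key criterion for equality with `sub B`. -/
theorem sub_le [Nontrivial R] {B : Subalgebra k A} {S : Subalgebra k R} (hθ : B ≤ P.good S) :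
    P.sub B ≤ S := by
  intro r hr
  obtain ⟨w, hw⟩ := hr
  have h1 : r ⊗ₜ[k] (1 : R) ∈ (Algebra.TensorProduct.map S.val (AlgHom.id k R)).range := by
    rw [← P.Ψ_Φ (r ⊗ₜ[k] 1), show P.Φ (r ⊗ₜ[k] 1) = P.ρ r by simp [Φ, ← Algebra.TensorProduct.one_def]]
    rw [show P.ρ r = Algebra.TensorProduct.map B.val (AlgHom.id k R) w from hw.symm]
    clear hw
    induction w with
    | zero => simp
    | add p q hp hq =>
      simp only [map_add]
      exact Subalgebra.add_mem _ hp hq
    | tmul p q =>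
      rw [Algebra.TensorProduct.map_tmul, show P.Ψ (B.val p ⊗ₜ[k] (AlgHom.id k R) q) = P.θ p.1 * (1 ⊗ₜ[k] q) by
        simp [Ψ]]
      exact Subalgebra.mul_mem _ (hθ p.2) ⟨1 ⊗ₜ q, by simp⟩
  rw [mem_range_iff, LinearMap.rTensor_tmul] at h1
  obtain ⟨φ, hφ⟩ := Module.Projective.exists_dual_eq_one k (one_ne_zero (α := R))
  have h2 := congrArg (fun z => TensorProduct.rid k _ (φ.lTensor _ z)) h1
  simp [hφ] at h2
  exact h2

theorem sub_bot [Nontrivial R] : P.sub ⊥ = ⊥ :=
  le_antisymm (P.sub_le bot_le) bot_le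

theorem sub_top : P.sub ⊤ = ⊤ := by
  refine eq_top_iff.2 fun r _ => ?_
  show P.ρ r ∈ (Algebra.TensorProduct.map (⊤ : Subalgebra k A).val (AlgHom.id k R)).range
  exact TensorProduct.map_surjective (fun x => ⟨⟨x, trivial⟩, rfl⟩) Function.surjective_id _

theorem sub_sup [Nontrivial R] {B T : Subalgebra k A} (hB : IsSub B) (hT : IsSub T) :
    P.sub (B ⊔ T) = P.sub B ⊔ P.sub T :=
  le_antisymm
    (P.sub_le (sup_le ((P.le_good_sub hB).trans (P.good_mono le_sup_left))
      ((P.le_good_sub hT).trans (P.good_mono le_sup_right))))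
    (sup_le (P.sub_mono le_sup_left) (P.sub_mono le_sup_right))

/-- The quotient torsor by a finitely generated Hopf subalgebra is of finite type. -/
theorem fg_sub [Nontrivial R] {T : Subalgebra k A} (hT : IsSub T) (hfg : T.FG) : (P.sub T).FG := by
  classical
  obtain ⟨gen, rfl⟩ := hfg
  have hex : ∀ t : gen, ∃ s : Finset R, (↑s : Set R) ⊆ P.sub (Algebra.adjoin k gen) ∧
      t.1 ∈ P.good (Algebra.adjoin k s) := by
    intro t
    obtain ⟨w, hw⟩ := P.le_good_sub hT (Algebra.subset_adjoin t.2)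
    obtain ⟨s, hs⟩ := TensorProduct.exists_finset (R := k) w
    refine ⟨s.image fun p => (p.1 : R), ?_, ?_⟩
    · intro r hr
      obtain ⟨p, -, rfl⟩ := Finset.mem_image.1 (Finset.mem_coe.1 hr)
      exact p.1.2
    · show P.θ t.1 ∈ (Algebra.TensorProduct.map _ _).range
      have hw' : Algebra.TensorProduct.map (P.sub (Algebra.adjoin k gen)).val (AlgHom.id k R) w = P.θ t.1 := hw
      rw [← hw', hs, map_sum]
      exact Subalgebra.sum_mem _ fun p hp => ⟨(⟨p.1.1, Algebra.subset_adjoin (Finset.mem_coe.2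
        (Finset.mem_image.2 ⟨p, hp, rfl⟩))⟩ : Algebra.adjoin k _) ⊗ₜ p.2, by simp⟩
  choose s hs hθ using hex
  refine ⟨Finset.univ.biUnion s, le_antisymm (Algebra.adjoin_le fun r hr => ?_) ?_⟩
  · obtain ⟨t, -, hr⟩ := Finset.mem_biUnion.1 (Finset.mem_coe.1 hr)
    exact hs t (Finset.mem_coe.2 hr)
  · refine P.sub_le (Algebra.adjoin_le fun t ht => ?_)
    refine P.good_mono (Algebra.adjoin_mono ?_) (hθ ⟨t, ht⟩)
    exact Finset.coe_subset.2 (Finset.subset_biUnion_of_mem s (Finset.mem_univ _))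

omit [CommRing R] [Algebra k R] in
/-- A field point of a Hopf subalgebra spreads to the whole algebra after a nonzero extension. -/
theorem exists_amalgam {B : Subalgebra k A} (hB : IsSub B) {N : Type u} [CommRing N] [Algebra k N]
    [Nontrivial N] (β : B →ₐ[k] N) :
    ∃ (C : Type u) (_ : CommRing C) (_ : Algebra k C) (_ : Nontrivial C) (χA : A →ₐ[k] C) (χN : N →ₐ[k] C),
      ∀ b : B, χA b = χN (β b) := by
  letI : Algebra B N := β.toRingHom.toAlgebra
  haveI : IsScalarTower k B N := IsScalarTower.of_algebraMap_eq fun c => (β.commutes c).symm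
  haveI : Module.FaithfullyFlat B A :=
    HopfFlat.IsSub.faithfullyFlat (B := B) ⟨hB.comul_mem, hB.antipode_mem⟩
  haveI : Nontrivial (A ⊗[B] N) := Module.FaithfullyFlat.lTensor_nontrivial B A N
  refine ⟨A ⊗[B] N, inferInstance, inferInstance, inferInstance, Algebra.TensorProduct.includeLeft,
    (Algebra.TensorProduct.includeRight : N →ₐ[B] A ⊗[B] N).restrictScalars k, fun b => ?_⟩
  show (b.1 : A) ⊗ₜ[B] (1 : N) = (1 : A) ⊗ₜ[B] algebraMap B N b
  rw [Algebra.algebraMap_eq_smul_one, ← TensorProduct.smul_tmul, Subalgebra.smul_def, smul_eq_mul, mul_one]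

omit [HopfAlgebra k A] [CommRing R] [Algebra k R] in
/-- Factor an algebra map through an injective one. -/
theorem exists_factor {U V W : Type u} [CommRing U] [CommRing V] [CommRing W] [Algebra k U] [Algebra k V]
    [Algebra k W] (j : V →ₐ[k] W) (hj : Function.Injective j) (f : U →ₐ[k] W) (h : ∀ x, ∃ y, j y = f x) :
    ∃ g : U →ₐ[k] V, ∀ x, j (g x) = f x := by
  choose g hg using h
  exact ⟨{ toFun := g
           map_one' := hj (by simp [hg])
           map_mul' := fun x y => hj (by simp [hg])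
           map_zero' := hj (by simp [hg])
           map_add' := fun x y => hj (by simp [hg])
           commutes' := fun r => hj (by rw [hg, j.commutes, f.commutes]) }, hg⟩

/-- `m ⊗ R` is proper inside `B ⊗ R`. -/
theorem map_rhoB_ne_top [Nontrivial R] {B : Subalgebra k A} (hB : IsSub B) {m : Ideal (P.sub B)} (hm : m ≠ ⊤)
    (ρB : P.sub B →ₐ[k] B ⊗[k] R)
    (hρB : ∀ s, Algebra.TensorProduct.map B.val (AlgHom.id k R) (ρB s) = P.ρ s.1) :
    m.map ρB.toRingHom ≠ ⊤ := by
  classical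
  intro h
  let S := P.sub B
  let jB : B ⊗[k] R →ₐ[k] A ⊗[k] R := Algebra.TensorProduct.map B.val (AlgHom.id k R)
  let jS : S ⊗[k] R →ₐ[k] R ⊗[k] R := Algebra.TensorProduct.map S.val (AlgHom.id k R)
  have hjS : Function.Injective jS :=
    Module.Flat.rTensor_preserves_injective_linearMap (M := R) S.val.toLinearMap Subtype.val_injective
  have hθB : ∀ b : B, ∃ w, jS w = P.θ b.1 := fun b => P.le_good_sub hB b.2
  have hΨ : ∀ z : B ⊗[k] R, ∃ w, jS w = P.Ψ (jB z) := by
    intro z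
    induction z with
    | zero => exact ⟨0, by simp⟩
    | add p q hp hq =>
      obtain ⟨wp, hp⟩ := hp
      obtain ⟨wq, hq⟩ := hq
      exact ⟨wp + wq, by simp [hp, hq]⟩
    | tmul p q =>
      obtain ⟨w, hw⟩ := hθB p
      exact ⟨w * (1 ⊗ₜ q), by simp [hw, jB, jS, Ψ]⟩
  obtain ⟨ψB, hψB⟩ := exists_factor jS hjS (P.Ψ.comp jB) hΨ
  have hsi : ∀ s : S, ψB (ρB s) = s ⊗ₜ[k] (1 : R) := fun s => hjS (by
    rw [hψB, AlgHom.comp_apply, show jB (ρB s) = P.ρ s.1 from hρB s, show P.ρ s.1 = P.Φ (s.1 ⊗ₜ 1) by simp [Φ, ← Algebra.TensorProduct.one_def], P.Ψ_Φ]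
    simp [jS])
  obtain ⟨φ, hφ⟩ := Module.Projective.exists_dual_eq_one k (one_ne_zero (α := R))
  let C : S ⊗[k] R →ₗ[k] S := (TensorProduct.rid k S).toLinearMap ∘ₗ φ.lTensor S
  have hC : ∀ (c : S ⊗[k] R), ∀ s ∈ m, C (c * (s ⊗ₜ 1)) ∈ m := by
    intro c s hs
    induction c with
    | zero => simp
    | add p q hp hq => rw [add_mul, map_add]; exact add_mem hp hq
    | tmul p q =>
      simp only [Algebra.TensorProduct.tmul_mul_tmul, mul_one, C, LinearMap.comp_apply, LinearMap.lTensor_tmul,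
        LinearEquiv.coe_coe, TensorProduct.rid_tmul]
      rw [Algebra.smul_def]
      exact Ideal.mul_mem_left _ _ (Ideal.mul_mem_left _ _ hs)
  have h1 : (1 : S ⊗[k] R) ∈ m.map (ψB.comp ρB).toRingHom := by
    have := Ideal.mem_map_of_mem ψB.toRingHom (show (1 : B ⊗[k] R) ∈ m.map ρB.toRingHom from h ▸ Submodule.mem_top)
    rw [map_one, Ideal.map_map] at this
    exact this
  rw [Ideal.map, Ideal.span, Submodule.mem_span_iff_exists_finset_subset] at h1
  obtain ⟨c, F, hF, -, hc⟩ := h1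
  have : C 1 ∈ m := by
    rw [← hc, map_sum]
    refine Ideal.sum_mem _ fun z hz => ?_
    obtain ⟨s, hs, rfl⟩ := hF hz
    rw [smul_eq_mul, show (ψB.comp ρB).toRingHom s = s ⊗ₜ 1 from hsi s]
    exact hC _ s hs
  refine hm ((Ideal.eq_top_iff_one _).2 ?_)
  simpa [C, Algebra.TensorProduct.one_def, hφ] using this

set_option maxHeartbeats 800000 in
set_option synthInstance.maxHeartbeats 100000 in
/-- A proper ideal of `sub B` stays proper in `R`. -/
theorem map_ne_top [Nontrivial R] {B : Subalgebra k A} (hB : IsSub B) {m : Ideal (P.sub B)} (hm : m ≠ ⊤) :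
    m.map (P.sub B).val.toRingHom ≠ ⊤ := by
  classical
  intro htop
  let jB : B ⊗[k] R →ₐ[k] A ⊗[k] R := Algebra.TensorProduct.map B.val (AlgHom.id k R)
  have hjB : Function.Injective jB :=
    Module.Flat.rTensor_preserves_injective_linearMap (M := R) B.val.toLinearMap Subtype.val_injective
  obtain ⟨ρB, hρB⟩ := exists_factor jB hjB (P.ρ.comp (P.sub B).val) fun s => s.2
  let m' : Ideal (B ⊗[k] R) := m.map ρB.toRingHom
  have hm' : m' ≠ ⊤ := P.map_rhoB_ne_top hB hm ρB hρB
  haveI : Nontrivial ((B ⊗[k] R) ⧸ m') := Ideal.Quotient.nontrivial_iff.2 hm'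
  obtain ⟨C, _, _, _, χA, χN, hcompat⟩ := exists_amalgam (N := (B ⊗[k] R) ⧸ m') hB
    ((Ideal.Quotient.mkₐ k m').comp Algebra.TensorProduct.includeLeft)
  let χ : A ⊗[k] R →ₐ[k] C := Algebra.TensorProduct.lift χA
    (χN.comp ((Ideal.Quotient.mkₐ k m').comp Algebra.TensorProduct.includeRight)) fun _ _ => Commute.all _ _
  let qm : B ⊗[k] R →ₐ[k] (B ⊗[k] R) ⧸ m' := Ideal.Quotient.mkₐ k m'
  have hχ : ∀ z : B ⊗[k] R, χ (jB z) = χN (qm z) := by
    intro z
    induction z with
    | zero => simp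
    | add p q hp hq => simp only [map_add, hp, hq]
    | tmul p q =>
      have e : (p ⊗ₜ[k] q : B ⊗[k] R) = (p ⊗ₜ[k] 1) * ((1 : B) ⊗ₜ[k] q) := by simp
      conv_rhs => rw [e, map_mul, map_mul]
      show χA p.1 * χN _ = _
      rw [hcompat p]
      rfl
  have h1 : (1 : R) ∈ m.map (P.sub B).val.toRingHom := htop ▸ Submodule.mem_top
  rw [Ideal.map, Ideal.span, Submodule.mem_span_iff_exists_finset_subset] at h1
  obtain ⟨c, F, hF, -, hc⟩ := h1
  have h2 : (1 : C) = 0 := by
    rw [← map_one (χ.comp P.ρ), ← hc, map_sum]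
    refine Finset.sum_eq_zero fun z hz => ?_
    obtain ⟨s, hs, rfl⟩ := hF hz
    rw [smul_eq_mul, map_mul]
    have : χ (P.ρ s.1) = 0 := by
      rw [show P.ρ s.1 = jB (ρB s) from (hρB s).symm, hχ, show qm (ρB s) = 0 from
        Ideal.Quotient.eq_zero_iff_mem.2 (Ideal.mem_map_of_mem ρB.toRingHom hs), map_zero]
    show _ * χ (P.ρ s.1) = 0
    rw [this, mul_zero]
  exact one_ne_zero h2

variable [IsAlgClosed k]

omit [HopfAlgebra k A] in
/-- Extending a point along a finitely generated extension of subalgebras. -/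
theorem exists_extend_of_ne_top {R : Type u} [CommRing R] [Algebra k R] {S₀ B' : Subalgebra k R}
    (gen : Finset R) (hB'eq : B' = S₀ ⊔ Algebra.adjoin k (gen : Set R)) (hle : S₀ ≤ B') (z : S₀ →ₐ[k] k)
    (hne : (RingHom.ker z).map S₀.val.toRingHom ≠ ⊤) :
    ∃ z' : B' →ₐ[k] k, ∀ b : S₀, z' (Subalgebra.inclusion hle b) = z b := by
  classical
  have hgenle : ∀ x ∈ gen, x ∈ B' := fun x hx => hB'eq ▸ (le_sup_right : _ ≤ S₀ ⊔ _) (Algebra.subset_adjoin hx)
  let ι : S₀ →ₐ[k] B' := Subalgebra.inclusion hle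
  let I : Ideal B' := (RingHom.ker z).map ι.toRingHom
  let q : B' →ₐ[k] B' ⧸ I := Ideal.Quotient.mkₐ k I
  have hIne : I ≠ ⊤ := by
    intro htop
    refine hne ?_
    have : (RingHom.ker z).map (S₀).val.toRingHom = I.map B'.val.toRingHom := by
      rw [Ideal.map_map]; rfl
    rw [this, htop, Ideal.map_top]
  have hιq : ∀ b : S₀, q (ι b) = algebraMap k _ (z b) := fun b => by
    rw [← sub_eq_zero, ← q.commutes, ← map_sub, ← ι.commutes, ← map_sub]
    exact Ideal.Quotient.eq_zero_iff_mem.2 (Ideal.mem_map_of_mem _ (by simp [RingHom.mem_ker]))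
  haveI : Algebra.FiniteType k (B' ⧸ I) := by
    refine ⟨⟨gen.attach.image fun x => q ⟨x.1, hgenle x.1 x.2⟩, ?_⟩⟩
    rw [eq_top_iff]
    intro y _
    obtain ⟨⟨y, hy⟩, rfl⟩ := Ideal.Quotient.mkₐ_surjective k I y
    let S := Algebra.adjoin k ((gen.attach.image fun x => q ⟨x.1, hgenle x.1 x.2⟩ : Finset _) : Set (B' ⧸ I))
    have : B' ≤ (S.comap q).map B'.val := by
      conv_lhs => rw [hB'eq]
      refine sup_le (fun b hb => ⟨ι ⟨b, hb⟩, ?_, rfl⟩) ?_
      · show q (ι ⟨b, hb⟩) ∈ S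
        rw [hιq]
        exact S.algebraMap_mem _
      · exact Algebra.adjoin_le fun x hx => ⟨⟨x, hgenle x hx⟩,
          Algebra.subset_adjoin (Finset.mem_coe.2 (Finset.mem_image.2 ⟨⟨x, hx⟩, Finset.mem_attach _ _, rfl⟩)), rfl⟩
    obtain ⟨y', hy', hyy⟩ := this hy
    have : y' = ⟨y, hy⟩ := Subtype.ext hyy
    subst this
    exact hy'
  haveI : Nontrivial (B' ⧸ I) := Ideal.Quotient.nontrivial_iff.2 hIne
  obtain ⟨M, hM⟩ := Ideal.exists_maximal (B' ⧸ I)
  obtain ⟨h, -⟩ := exists_point_ker (k := k) M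
  refine ⟨h.comp q, fun b => ?_⟩
  show h (q (ι b)) = _
  rw [hιq, h.commutes]
  rfl

/-- One step of the Zorn argument. -/
theorem exists_extend_sup [Nontrivial R] {B T : Subalgebra k A} (hB : IsSub B) (hT : IsSub T) (hfg : T.FG)
    (z : P.sub B →ₐ[k] k) :
    ∃ z' : P.sub (B ⊔ T) →ₐ[k] k, ∀ b : P.sub B, z' (Subalgebra.inclusion (P.sub_mono le_sup_left) b) = z b := by
  obtain ⟨gen, hgen⟩ := P.fg_sub hT hfg
  have heq : P.sub (B ⊔ T) = P.sub B ⊔ Algebra.adjoin k (gen : Set R) := by rw [hgen]; exact P.sub_sup hB hT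
  exact exists_extend_of_ne_top gen heq (P.sub_mono le_sup_left) z
    (P.map_ne_top hB (m := RingHom.ker z) (RingHom.ker_ne_top _))

include P in
/-- A torsor over an algebraically closed field has a rational point. -/
theorem exists_point [Nontrivial R] : Nonempty (R →ₐ[k] k) := by
  classical
  let p : R × k →ₐ[k] R := AlgHom.fst k R k
  let S : Set (Subalgebra k A × Subalgebra k (R × k)) :=
    {x | IsSub x.1 ∧ Set.InjOn p x.2 ∧ x.2.map p = P.sub x.1}
  have h₀ : ((⊥, ⊥) : Subalgebra k A × Subalgebra k (R × k)) ∈ S := by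
    refine ⟨isSub_bot, ?_, by rw [Algebra.map_bot, P.sub_bot]⟩
    intro a ha b hb hab
    obtain ⟨x, rfl⟩ := Algebra.mem_bot.1 ha
    obtain ⟨y, rfl⟩ := Algebra.mem_bot.1 hb
    rw [AlgHom.commutes, AlgHom.commutes] at hab
    rw [(algebraMap k R).injective hab]
  obtain ⟨⟨B, Γ⟩, -, ⟨hB, hΓ, hmap⟩, hmax⟩ := zorn_le_nonempty₀ S (fun c hc hchain y hy => by
    haveI : Nonempty c := ⟨⟨y, hy⟩⟩
    have hdir : Directed (· ≤ ·) (fun x : c => (x.1 : Subalgebra k A × Subalgebra k (R × k))) := by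
      rintro ⟨x, hx⟩ ⟨x', hx'⟩
      rcases hchain.total hx hx' with h | h
      · exact ⟨⟨x', hx'⟩, h, le_rfl⟩
      · exact ⟨⟨x, hx⟩, le_rfl, h⟩
    have hdirA : Directed (· ≤ ·) (fun x : c => x.1.1) := fun i j =>
      (hdir i j).imp fun l hl => ⟨hl.1.1, hl.2.1⟩
    have hdirR : Directed (· ≤ ·) (fun x : c => x.1.2) := fun i j =>
      (hdir i j).imp fun l hl => ⟨hl.1.2, hl.2.2⟩
    have hmemA : ∀ a ∈ (⨆ x : c, x.1.1), ∃ x : c, a ∈ x.1.1 := fun a ha => by
      rw [← SetLike.mem_coe, Subalgebra.coe_iSup_of_directed hdirA, Set.mem_iUnion] at ha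
      exact ha
    have hmemR : ∀ a ∈ (⨆ x : c, x.1.2), ∃ x : c, a ∈ x.1.2 := fun a ha => by
      rw [← SetLike.mem_coe, Subalgebra.coe_iSup_of_directed hdirR, Set.mem_iUnion] at ha
      exact ha
    refine ⟨(⨆ x : c, x.1.1, ⨆ x : c, x.1.2), ⟨?_, ?_, ?_⟩,
      fun x hx => ⟨le_iSup (fun x : c => x.1.1) ⟨x, hx⟩, le_iSup (fun x : c => x.1.2) ⟨x, hx⟩⟩⟩
    · constructor
      · intro b hb
        obtain ⟨x, hx⟩ := hmemA b hb
        exact IsSub.mem_range_mono (le_iSup (fun x : c => x.1.1) x) ((hc x.2).1.comul_mem b hx)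
      · intro b hb
        obtain ⟨x, hx⟩ := hmemA b hb
        exact le_iSup (fun x : c => x.1.1) x ((hc x.2).1.antipode_mem b hx)
    · intro a ha b hb hab
      obtain ⟨i, hi⟩ := hmemR a ha
      obtain ⟨j, hj⟩ := hmemR b hb
      obtain ⟨l, hil, hjl⟩ := hdirR i j
      exact (hc l.2).2.1 (hil hi) (hjl hj) hab
    · refine le_antisymm ?_ ?_
      · rintro _ ⟨a, ha, rfl⟩
        obtain ⟨x, hx⟩ := hmemR a ha
        exact P.sub_mono (le_iSup (fun x : c => x.1.1) x) ((hc x.2).2.2 ▸ ⟨a, hx, rfl⟩)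
      · refine P.sub_le fun a ha => ?_
        obtain ⟨x, hx⟩ := hmemA a ha
        refine P.good_mono ?_ (P.le_good_sub (hc x.2).1 hx)
        rw [← (hc x.2).2.2]
        exact Subalgebra.map_mono (le_iSup (fun x : c => x.1.2) x)) _ h₀
  let e : Γ →ₐ[k] P.sub B := (p.comp Γ.val).codRestrict _ fun x => hmap ▸ ⟨x.1, x.2, rfl⟩
  have he : Function.Bijective e := by
    refine ⟨fun x y h => Subtype.ext (hΓ x.2 y.2 (congrArg Subtype.val h)), fun r => ?_⟩
    have hr : r.1 ∈ Γ.map p := hmap.symm ▸ r.2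
    obtain ⟨a, ha, har⟩ := hr
    exact ⟨⟨a, ha⟩, Subtype.ext har⟩
  let e' := AlgEquiv.ofBijective e he
  let w : P.sub B →ₐ[k] k := ((AlgHom.snd k R k).comp Γ.val).comp e'.symm.toAlgHom
  have htop : B = ⊤ := by
    refine eq_top_iff.2 fun a _ => ?_
    obtain ⟨T, hT, hTfg, ha⟩ := exists_fg_isSub (k := k) ({a} : Finset A)
    obtain ⟨w', hw'⟩ := P.exists_extend_sup hB hT hTfg w
    let Γ' := ((P.sub (B ⊔ T)).val.prod w').range
    have hS' : ((B ⊔ T, Γ') : Subalgebra k A × Subalgebra k (R × k)) ∈ S := by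
      refine ⟨hB.sup hT, ?_, ?_⟩
      · rintro _ ⟨x, rfl⟩ _ ⟨y, rfl⟩ h
        have : x = y := Subtype.ext h
        rw [this]
      · rw [← AlgHom.range_comp, show p.comp ((P.sub (B ⊔ T)).val.prod w') = (P.sub (B ⊔ T)).val from
          AlgHom.ext fun _ => rfl, Subalgebra.range_val]
    have hle' : Γ ≤ Γ' := fun x hx => by
      refine ⟨Subalgebra.inclusion (P.sub_mono le_sup_left) (e ⟨x, hx⟩), ?_⟩
      refine Prod.ext rfl ?_
      show w' _ = _
      rw [hw']
      show (AlgHom.snd k R k) (Γ.val (e'.symm (e' ⟨x, hx⟩))) = _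
      rw [AlgEquiv.symm_apply_apply]
      rfl
    exact (hmax hS' ⟨le_sup_left, hle'⟩).1 ((le_sup_right : T ≤ B ⊔ T) (ha (by simp)))
  subst htop
  exact ⟨w.comp ((AlgHom.id k R).codRestrict _ fun r => by rw [P.sub_top]; trivial)⟩

end TorsorPts

end Groth.Agent.HopfPts19
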